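import Cfsg.Agent.H792.M23.Co13
import Cfsg.Agent.H657.M13.SylE

/-!
# Elements of order 13 of `Co1` (helper792)

* `rat13` : they are rational;
* `conj13` : they are conjugate;
* `no78` : no subgroup `13 × 2 × 3`.
-/

set_option autoImplicit false

namespace Cfsg.Agent.H792.M23.Co13

open Subgroup Cfsg
open Cfsg.Agent.H935.K4.Co1Thirteen (a b1 b2 b3 t order_a z1_sq z2_sq z3_sq z12 z21 z12_ne ne_b ne_t pb2 pb3 comm1 comm2
  comm3 commt)
open Cfsg.Spor (Co1)

theorem not_sq : ¬ 13 ^ 2 ∣ Nat.card Co1 := by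
  rw [H55.CoOneBd.card_co1]
  norm_num

/-- **Elements of order 13 of `Co1` are rational.** -/
theorem rat13 {s : Co1} (hs : orderOf s = 13) (k : ℕ) (hk : ¬ 13 ∣ k) : IsConj s (s ^ k) := by
  have hfin0 := CpAutBig.CoZero.finite_co0
  have hfin : Finite Co1 := inferInstance
  have hp : Fact (Nat.Prime 13) := ⟨by norm_num⟩
  obtain ⟨e, i, he, hi, hc, h1, -⟩ := H657.M13.exists_e (p := 13) hs not_sq
  rw [cent13 hs, H55.CoOneBd.card_co1] at hc
  have h2 : 26652415426560000 = e * i := by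
    have h3 : 156 * 26652415426560000 = 156 * (e * i) := by rw [← mul_assoc, ← hc]
    omega
  have h4 : e ≤ 12 := Nat.le_of_dvd (by norm_num) he
  have h5 : e * i ≡ e [MOD 13] := by
    have := hi.mul_left e
    rwa [mul_one] at this
  rw [← h2] at h5
  have h6 : 26652415426560000 % 13 = e % 13 := h5
  have h7 : e = 13 - 1 := by omega
  obtain ⟨g, hg⟩ := h1 h7 k hk
  exact isConj_iff.2 ⟨g, hg⟩

/-- **Elements of order 13 of `Co1` are conjugate.** -/
theorem conj13 {s s' : Co1} (hs : orderOf s = 13) (hs' : orderOf s' = 13) : IsConj s s' := by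
  have hfin0 := CpAutBig.CoZero.finite_co0
  have hfin : Finite Co1 := inferInstance
  obtain ⟨g, h1, -⟩ := H547.SelfCent.exists_conj (r := 13) (by norm_num) (by
    have := not_sq
    rwa [pow_two] at this) hs hs'
  obtain ⟨k, hk⟩ := (Subgroup.mem_zpowers_iff.trans ⟨fun ⟨z, hz⟩ => (by
    obtain ⟨n, hn⟩ := (isOfFinOrder_of_finite s).mem_powers_iff_mem_zpowers.2 (mem_zpowers_iff.2 ⟨z, hz⟩)
    exact ⟨n, hn⟩ : ∃ n : ℕ, s ^ n = g * s' * g⁻¹), fun ⟨n, hn⟩ => ⟨n, by rw [zpow_natCast, hn]⟩⟩).1 h1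
  have hne : ¬ 13 ∣ k := by
    rintro ⟨m, rfl⟩
    have h2 : s ^ (13 * m) = 1 := by rw [pow_mul, ← hs, pow_orderOf_eq_one, one_pow]
    rw [h2] at hk
    have h3 : s' = 1 := by
      have := congrArg (fun y => g⁻¹ * y * g) hk
      simp only [mul_one, inv_mul_cancel] at this
      rw [this]
      group
    rw [h3, orderOf_one] at hs'
    norm_num at hs'
  refine (rat13 hs k hne).trans ?_
  rw [hk]
  exact (isConj_iff.2 ⟨g, rfl⟩ : IsConj s' (g * s' * g⁻¹)).symm

/-- conjugating the involution by `t` moves it -/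
theorem abs_no {G : Type*} [Group G] [Finite G] {x z1 z2 z3 t u y : G} (hx : orderOf x = 13)
    (hC : Nat.card (centralizer ({x} : Set G)) = 156)
    (h11 : z1 * z1 = 1) (h22 : z2 * z2 = 1) (h33 : z3 * z3 = 1) (h12 : z1 * z2 = z3) (h21 : z2 * z1 = z3)
    (hz1 : z1 ≠ 1) (hne : z1 ≠ z2) (ht3 : t ^ 3 = 1) (ht : t ≠ 1) (ht1 : t * z1 * t⁻¹ = z2) (ht2 : t * z2 * t⁻¹ = z3)
    (cz1 : z1 * x = x * z1) (cz2 : z2 * x = x * z2) (cz3 : z3 * x = x * z3) (ct : t * x = x * t)
    (hu : orderOf u = 2) (hy : orderOf y = 3) (ux : u * x = x * u) (yx : y * x = x * y) (uy : u * y = y * u) :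
    False := by
  have hu2 : u * u = 1 := by rw [← pow_two, ← hu, pow_orderOf_eq_one]
  have hu1 : u ≠ 1 := by
    rintro rfl
    rw [orderOf_one] at hu
    norm_num at hu
  have hcase := H935.K4.Co1Thirteen.abs_cent hx (by rw [hC]; norm_num) h11 h22 h33 h12 h21 hz1 hne ht3 ht ht1 ht2 cz1 cz2 cz3 ct
    hu2 ux
  have hz2 : z2 ≠ 1 := by
    intro h
    rw [h] at ht1
    exact hz1 (by
      have := mul_inv_eq_one.1 ht1
      exact mul_eq_left.1 this)
  have e13 : z1 * z3 = z2 := by rw [← h12, ← mul_assoc, h11, one_mul]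
  have e31 : z3 * z1 = z2 := by rw [← h21, mul_assoc, h11, mul_one]
  have e23 : z2 * z3 = z1 := by rw [← h21, ← mul_assoc, h22, one_mul]
  have e32 : z3 * z2 = z1 := by rw [← h12, mul_assoc, h22, mul_one]
  -- the involution commutes with all of them
  have u1 : u * z1 = z1 * u ∧ u * z2 = z2 * u := by
    rcases hcase with h | h | h | h
    · exact absurd h hu1
    · rw [h]
      exact ⟨rfl, h12.trans h21.symm⟩
    · rw [h]
      exact ⟨h21.trans h12.symm, rfl⟩
    · rw [h]
      exact ⟨e31.trans e13.symm, e32.trans e23.symm⟩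
  -- the element of order 3 moves it
  have hmv : t * u * t⁻¹ ≠ u := by
    have e1 : z1 ≠ z3 := by
      intro h
      rw [← h12] at h
      exact hz2 (left_eq_mul.1 h)
    have e2 : z2 ≠ z3 := by
      intro h
      rw [← h21] at h
      exact hz1 (left_eq_mul.1 h)
    rcases hcase with h | h | h | h
    · exact absurd h hu1
    · rw [h, ht1]
      exact hne.symm
    · rw [h, ht2]
      exact e2.symm
    · rw [h]
      intro h3
      rw [← ht2] at h3
      have h4 : t * (t * z2 * t⁻¹) * t⁻¹ = t * z2 * t⁻¹ := h3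
      have h5 : t * z2 * t⁻¹ = z2 := by
        have h6 := mul_left_cancel (mul_right_cancel h4)
        exact h6
      rw [ht2] at h5
      exact e2 h5.symm
  -- the centralizer of both
  let D : Subgroup G := centralizer ({x} : Set G) ⊓ centralizer ({u} : Set G)
  have m1 : ∀ c : G, c * x = x * c → c * u = u * c → c ∈ D := fun c h1 h2 =>
    ⟨mem_centralizer_singleton_iff.2 h1, mem_centralizer_singleton_iff.2 h2⟩
  have d4 : 4 ∣ Nat.card D := SmallSimple.Order5040.four_dvd_card (m1 z1 cz1 u1.1.symm) (m1 z2 cz2 u1.2.symm)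
    (by rw [pow_two]; exact h11) (by rw [pow_two]; exact h22) hz1 hz2 hne (h12.trans h21.symm)
  have dv : ∀ (c : G) (n : ℕ), c ∈ D → orderOf c = n → n ∣ Nat.card D := by
    intro c n hc hn
    have h := orderOf_dvd_natCard (⟨c, hc⟩ : D)
    rwa [← Subgroup.orderOf_coe, hn] at h
  have d3 : 3 ∣ Nat.card D := dv y 3 (m1 y yx uy.symm) hy
  have d13 : 13 ∣ Nat.card D := dv x 13 (m1 x rfl ux.symm) hx
  have d156 : 4 * 3 * 13 ∣ Nat.card D :=
    Nat.Coprime.mul_dvd_of_dvd_of_dvd (by norm_num) (Nat.Coprime.mul_dvd_of_dvd_of_dvd (by norm_num) d4 d3) d13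
  have hle : 156 ≤ Nat.card D := Nat.le_of_dvd Nat.card_pos d156
  have hD : D = centralizer ({x} : Set G) := Subgroup.eq_of_le_of_card_ge inf_le_left (by rw [hC]; exact hle)
  have htD : t ∈ D := by
    rw [hD]
    exact mem_centralizer_singleton_iff.2 ct
  have h7 := mem_centralizer_singleton_iff.1 htD.2
  apply hmv
  rw [h7, mul_assoc, mul_inv_cancel, mul_one]

/-- **No `13 × 2 × 3` in `Co1`.** -/
theorem no78 {s u y : Co1} (hs : orderOf s = 13) (hu : orderOf u = 2) (hy : orderOf y = 3) (us : u * s = s * u)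
    (ys : y * s = s * y) (uy : u * y = y * u) : False := by
  have hfin0 := CpAutBig.CoZero.finite_co0
  have hfin : Finite Co1 := inferInstance
  obtain ⟨g, hg⟩ := isConj_iff.1 (conj13 hs order_a)
  have hm : ∀ {c d : Co1}, c * d = d * c → (g * c * g⁻¹) * (g * d * g⁻¹) = (g * d * g⁻¹) * (g * c * g⁻¹) := by
    intro c d h
    calc (g * c * g⁻¹) * (g * d * g⁻¹) = g * (c * d) * g⁻¹ := by group
      _ = g * (d * c) * g⁻¹ := by rw [h]
      _ = _ := by group
  have ho : ∀ c : Co1, orderOf (g * c * g⁻¹) = orderOf c := fun c => by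
    have h := orderOf_injective (MulAut.conj g).toMonoidHom (MulAut.conj g).injective c
    exact h
  have h1 := hm us
  have h2 := hm ys
  rw [hg] at h1 h2
  exact abs_no order_a (cent13 order_a) z1_sq z2_sq z3_sq z12 z21 ne_b z12_ne
    (by rw [← map_pow, H935.K4.Co1Thirteen.t3, map_one]) ne_t pb2.symm pb3.symm comm1 comm2 comm3 commt
    ((ho u).trans hu) ((ho y).trans hy) h1 h2 (hm uy)

end Cfsg.Agent.H792.M23.Co13
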