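import Cfsg.Agent.BpMon.Thirteen
import Cfsg.Agent.H792.M23.Co13b

/-!
# The Monster: an element of order 13 commuting with a 2B-involution (helper792)

* `card_cz` : `|C(x) ∩ C(z)| = 312`;
* `rat_z` : `x` is rational;
* `no156` : no elements `y`, `q` of orders 3, 4 in `C(x) ∩ C(z)` commuting with each other.
-/

set_option autoImplicit false
set_option maxRecDepth 100000

namespace Cfsg.Agent.H792.M23.Z13

open Cfsg Cfsg.Spor
open Cfsg.Agent.MonsterU.Ch
open Cfsg.Agent.MonsterU.Lam2 (L2)
open Cfsg.Agent.LThreeMB (fr CC CC_z CC_x be be_coe be_eq_one)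
open Cfsg.Agent.LThreeMB (KChart.Cent KChart.pi KChart.chart)
open Cfsg.Agent.MonsterX
open Subgroup (centralizer zpowers mem_centralizer_singleton_iff)

section chart

variable {p : ℕ} {G : Type*} [Group G] {Q : Subgroup G} {z : G} {eta : G → L2}
  {pi : Subgroup.centralizer ({z} : Set G) →* Co1}

/-- the order of `C(z) ∩ C(x)`, fixed rank 0 -/
theorem card_CC (h : Chart Q z eta pi) (hp : p.Prime) (ho : Odd p) {x : Subgroup.centralizer ({z} : Set G)}
    (hx : x ^ p = 1) (hfr : fr (pi x) = 1) :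
    Nat.card (CC z (x : G)) = 2 * Nat.card ↥(centralizer ({pi x} : Set Co1)) := by
  have hxz : z * (x : G) = x * z := (mem_centralizer_singleton_iff.1 x.2).symm
  have hz : z ∈ centralizer ({z} : Set G) ⊓ centralizer ({(x : G)} : Set G) := Subgroup.mem_inf.2 ⟨mem_centralizer_singleton_iff.2 rfl,
    mem_centralizer_singleton_iff.2 hxz⟩
  have hker : (be pi x).ker = zpowers (⟨z, hz⟩ : CC z (x : G)) := by
    ext g
    rw [MonoidHom.mem_ker, be_eq_one h]
    constructor
    · intro hg
      rcases Cfsg.Agent.PreUniq.MonGen.free_of_fr h ho hx hfr hg (CC_x g).symm with h1 | h1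
      · have : g = 1 := Subtype.ext h1
        rw [this]
        exact one_mem _
      · have : g = ⟨z, hz⟩ := Subtype.ext h1
        rw [this]
        exact Subgroup.mem_zpowers _
    · intro hg
      obtain ⟨k, rfl⟩ := Subgroup.mem_zpowers_iff.1 hg
      have : ((((⟨z, hz⟩ : CC z (x : G)) ^ k : CC z (x : G))) : G) = z ^ k := rfl
      rw [this]
      exact Q.zpow_mem h.large.z_mem k
  have hcard : Nat.card ↥(be pi x).ker = 2 := by
    rw [hker, Nat.card_zpowers]
    have : Fact (Nat.Prime 2) := ⟨Nat.prime_two⟩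
    refine orderOf_eq_prime (Subtype.ext ?_) fun h1 => h.large.z_ne (congrArg Subtype.val h1)
    show z ^ 2 = 1
    rw [pow_two]
    exact h.large.z_sq
  have h5 := Subgroup.card_eq_card_quotient_mul_card_subgroup (be pi x).ker
  rw [Nat.card_congr (QuotientGroup.quotientKerEquivOfSurjective _ (MFive.be_surj h hp ho hx)).toEquiv, hcard] at h5
  rw [h5, mul_comm]

end chart

section model

/-- **`|C(x) ∩ C(z)| = 312`** -/
theorem card_cz {x : ↥InstData.M.G} (hx : orderOf x = 13) (hxz : KDone.K.z * x = x * KDone.K.z) :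
    Nat.card ↥(centralizer ({x} : Set ↥InstData.M.G) ⊓ centralizer ({KDone.K.z} : Set ↥InstData.M.G)) = 312 := by
  have hfin := MFive.Row.finite_model
  have hc := MFive.Row.hc
  have h := KChart.chart KDone.lft hc
  have h13 : Nat.Prime 13 := by norm_num
  let xc : centralizer ({KDone.K.z} : Set ↥InstData.M.G) := ⟨x, mem_centralizer_singleton_iff.2 hxz.symm⟩
  have hxc : orderOf xc = 13 := by
    rw [← Subgroup.orderOf_coe]
    exact hx
  have hx13 : xc ^ 13 = 1 := by rw [← hxc, pow_orderOf_eq_one]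
  have h1 := card_CC h h13 (by decide) hx13 (BpMon.Thirteen.fr_pi KDone.lft hc hxc)
  rw [Co13.cent13 (MFive.orderOf_pi h h13 (by decide) hxc)] at h1
  rw [inf_comm]
  exact h1

/-- **`x` is rational** -/
theorem rat_z {x : ↥InstData.M.G} (hx : orderOf x = 13) (hxz : KDone.K.z * x = x * KDone.K.z) (k : ℕ) (hk : ¬ 13 ∣ k) :
    IsConj x (x ^ k) := by
  have hfin := MFive.Row.finite_model
  have hc := MFive.Row.hc
  have h := KChart.chart KDone.lft hc
  have h13 : Nat.Prime 13 := by norm_num
  let xc : centralizer ({KDone.K.z} : Set ↥InstData.M.G) := ⟨x, mem_centralizer_singleton_iff.2 hxz.symm⟩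
  have hxc : orderOf xc = 13 := by
    rw [← Subgroup.orderOf_coe]
    exact hx
  have hx13 : xc ^ 13 = 1 := by rw [← hxc, pow_orderOf_eq_one]
  obtain ⟨s, hs⟩ := isConj_iff.1 (Co13.rat13 (MFive.orderOf_pi h h13 (by decide) hxc) k hk)
  obtain ⟨c, hcx⟩ := MFive.exists_conj_of_conj h h13 (by decide) (x := xc) (y := xc ^ k) (s := s) hx13
    (by rw [← pow_mul, mul_comm, pow_mul, hx13, one_pow]) (by rw [map_pow]; exact hs)
  exact isConj_iff.2 ⟨c, congrArg Subtype.val hcx⟩

/-- **no `13 × (3 × 4)` in `C(z)`** -/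
theorem no156 {x y q : ↥InstData.M.G} (hx : orderOf x = 13) (hxz : KDone.K.z * x = x * KDone.K.z) (hy : orderOf y = 3)
    (hq : orderOf q = 4) (yx : y * x = x * y) (qx : q * x = x * q) (yz : y * KDone.K.z = KDone.K.z * y)
    (qz : q * KDone.K.z = KDone.K.z * q) (yq : y * q = q * y) : False := by
  have hfin := MFive.Row.finite_model
  have hc := MFive.Row.hc
  have h := KChart.chart KDone.lft hc
  have h13 : Nat.Prime 13 := by norm_num
  let xc : centralizer ({KDone.K.z} : Set ↥InstData.M.G) := ⟨x, mem_centralizer_singleton_iff.2 hxz.symm⟩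
  let yc : centralizer ({KDone.K.z} : Set ↥InstData.M.G) := ⟨y, mem_centralizer_singleton_iff.2 yz⟩
  let qc : centralizer ({KDone.K.z} : Set ↥InstData.M.G) := ⟨q, mem_centralizer_singleton_iff.2 qz⟩
  have hxc : orderOf xc = 13 := by
    rw [← Subgroup.orderOf_coe]
    exact hx
  have hyc : orderOf yc = 3 := by
    rw [← Subgroup.orderOf_coe]
    exact hy
  have hqc : orderOf qc = 4 := by
    rw [← Subgroup.orderOf_coe]
    exact hq
  have hx13 : xc ^ 13 = 1 := by rw [← hxc, pow_orderOf_eq_one]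
  have hfr := BpMon.Thirteen.fr_pi KDone.lft hc hxc
  have hq4 : qc ^ 4 = 1 := by rw [← hqc, pow_orderOf_eq_one]
  have hq2 : qc ^ 2 ≠ 1 := by
    intro h1
    have h2 := orderOf_dvd_of_pow_eq_one h1
    rw [hqc] at h2
    norm_num at h2
  have cqx : qc * xc = xc * qc := Subtype.ext qx
  have cyx : yc * xc = xc * yc := Subtype.ext yx
  have cyq : yc * qc = qc * yc := Subtype.ext yq
  have hqz : ((qc ^ 2 : centralizer ({KDone.K.z} : Set ↥InstData.M.G)) : ↥InstData.M.G) = KDone.K.z := by
    refine BpMon.Thirteen.only_inv KDone.lft hc (x := xc) (t := qc ^ 2) hxc ?_ hq2 ?_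
    · rw [← pow_add]
      exact hq4
    · exact ((show Commute qc xc from cqx).pow_left 2).eq.symm
  have hp1 : KChart.pi hc qc ≠ 1 := by
    intro h1
    have h2 : (qc : ↥InstData.M.G) ∈ _ := (h.pi_eq_one qc).1 h1
    rcases Cfsg.Agent.PreUniq.MonGen.free_of_fr h (by decide) hx13 hfr h2 (congrArg Subtype.val cqx.symm) with h3 | h3
    · apply hq2
      have h4 : qc = 1 := Subtype.ext h3
      rw [h4, one_pow]
    · apply hq2
      apply Subtype.ext
      show (qc : ↥InstData.M.G) ^ 2 = 1
      rw [h3, pow_two]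
      exact h.large.z_sq
  have hp2 : KChart.pi hc qc ^ 2 = 1 := by
    rw [← map_pow]
    refine (h.pi_eq_one _).2 ?_
    rw [hqz]
    exact h.large.z_mem
  have : Fact (Nat.Prime 2) := ⟨Nat.prime_two⟩
  exact Co13.no78 (MFive.orderOf_pi h h13 (by decide) hxc) (orderOf_eq_prime hp2 hp1)
    (MFive.orderOf_pi h Nat.prime_three (by decide) hyc) (by rw [← map_mul, ← map_mul, cqx])
    (by rw [← map_mul, ← map_mul, cyx]) (by rw [← map_mul, ← map_mul, cyq])

end model

end Cfsg.Agent.H792.M23.Z13
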