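import Cfsg.Agent.H935.K4.Co1Thirteen
import Cfsg.Agent.H547.SelfCent.Base
import Cfsg.Agent.SmallSimple.Order5040

/-!
# The centralizer of an element of order 13 of `Co1` has order 156 (helper792)
-/

set_option autoImplicit false

namespace Cfsg.Agent.H792.M23.Co13

open Subgroup Cfsg
open Cfsg.Agent.H935.K4.Co1Thirteen (a b1 b2 t order_a z1_sq z2_sq z3_sq z12 z21 z12_ne ne_b ne_t pb2 comm1 comm2 commt)
open Cfsg.Spor (Co1)

/-- an element of order `n` in the centralizer gives a divisor of its order -/
theorem dvd_of_comm {G : Type*} [Group G] [Finite G] {s c : G} {n : ℕ} (hc : c * s = s * c) (hn : orderOf c = n) :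
    n ∣ Nat.card (centralizer ({s} : Set G)) := by
  have h := orderOf_dvd_natCard (⟨c, mem_centralizer_singleton_iff.2 hc⟩ : ↥(centralizer ({s} : Set G)))
  rwa [← Subgroup.orderOf_coe, hn] at h

/-- elements of order `p`, `p` exactly dividing the order: the centralizers have the same order -/
theorem card_cent_eq {G : Type*} [Group G] [Finite G] {p : ℕ} (hp : p.Prime) (hsq : ¬ p * p ∣ Nat.card G) {x y : G}
    (hx : orderOf x = p) (hy : orderOf y = p) :
    Nat.card (centralizer ({x} : Set G)) = Nat.card (centralizer ({y} : Set G)) := by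
  obtain ⟨g, h1, h2⟩ := H547.SelfCent.exists_conj hp hsq hx hy
  have h3 : centralizer ({x} : Set G) = centralizer ({g * y * g⁻¹} : Set G) := by
    apply le_antisymm
    · intro c hc
      rw [mem_centralizer_singleton_iff] at hc ⊢
      obtain ⟨k, hk⟩ := mem_zpowers_iff.1 h1
      rw [← hk]
      exact (show Commute c x from hc).zpow_right k
    · intro c hc
      rw [mem_centralizer_singleton_iff] at hc ⊢
      obtain ⟨k, hk⟩ := mem_zpowers_iff.1 h2
      rw [← hk]
      exact (show Commute c (g * y * g⁻¹) from hc).zpow_right k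
  rw [h3]
  exact (H55.CoOneBd.card_cent_conj (isConj_iff.2 ⟨g, rfl⟩)).symm

/-- **The centralizer of an element of order 13 of `Co1` has order 156.** -/
theorem cent13 {s : Co1} (hs : orderOf s = 13) : Nat.card (centralizer ({s} : Set Co1)) = 156 := by
  have hfin0 := CpAutBig.CoZero.finite_co0
  have hfin : Finite Co1 := inferInstance
  have hsq : ¬ 13 * 13 ∣ Nat.card Co1 := by
    rw [H55.CoOneBd.card_co1]
    norm_num
  rw [card_cent_eq (by norm_num) hsq hs order_a]
  have h0 := H518.Co13.cent_co1 order_a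
  have h13 := dvd_of_comm (rfl : _ * _ = _) order_a
  have h3 := dvd_of_comm commt (orderOf_eq_prime (p := 3) (by rw [← map_pow, H935.K4.Co1Thirteen.t3, map_one]) ne_t)
  have h4 : 4 ∣ Nat.card (centralizer ({_} : Set Co1)) :=
    SmallSimple.Order5040.four_dvd_card (mem_centralizer_singleton_iff.2 comm1) (mem_centralizer_singleton_iff.2 comm2)
      (by rw [pow_two]; exact z1_sq) (by rw [pow_two]; exact z2_sq) ne_b (by
        intro h
        rw [pb2] at h
        exact ne_b (mul_eq_left.1 (mul_inv_eq_one.1 h))) z12_ne (z12.trans z21.symm)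
  have h5 : 4 * 3 * 13 ∣ Nat.card (centralizer ({_} : Set Co1)) :=
    Nat.Coprime.mul_dvd_of_dvd_of_dvd (by norm_num) (Nat.Coprime.mul_dvd_of_dvd_of_dvd (by norm_num) h4 h3) h13
  exact Nat.dvd_antisymm (h0.trans (by norm_num)) (Dvd.dvd.trans (by norm_num) h5)

end Cfsg.Agent.H792.M23.Co13
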