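import Cfsg.Agent.H792.M23.TyK
import Cfsg.Agent.H606.OreM.Ok
import Cfsg.Agent.H529.MSev.L17
import Cfsg.Agent.H715.Mon.Norm
import Cfsg.Agent.H562.OreM.Loc31
import Cfsg.Agent.H715.Mon.Inf
import Cfsg.Agent.S3331

/-!
# The types of (M,23) (helper792)

`X` a real irreducible character of the Monster, `d = X(1)`, `b = X(2A)`: the residues of `(d, b)` modulo
17, 19, 23, 31, 47 and of `d` modulo 29, 41, 59, 71.
-/

set_option autoImplicit false
set_option linter.unusedSectionVars false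
set_option maxRecDepth 100000

open Cfsg Subgroup
open scoped ComplexConjugate

namespace Cfsg.Agent.H792.M23.Ty

open Cfsg.Agent.MonsterX Cfsg.Agent.MonsterX.InstData Cfsg.Agent.MonsterX.MainPack
open Cfsg.Agent.BpSpor.MBigModel
open Cfsg.Agent.LThreeB.Row (TA)
open Cfsg.Agent.LThreeMB (XX mk Zx self)
open Cfsg.Agent.SmallSimple.ThetaSetup
open Cfsg.Agent.H606.OreM Cfsg.Agent.H606.OreM.Exact
open Cfsg.Agent.H792.M23.Loc Cfsg.Agent.H792.M23.TyA Cfsg.Agent.H792.M23.TyK Cfsg.Agent.H924.M23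

theorem sThree : H715.Mon.Grp.SThree.{0} := fun _ _ _ X hX hC => S3331.result X hX hC

/-- the numerical conditions -/
def colOK (r k c e f s : ℕ) : Bool :=
  eOK NM r k e f && sOK r k s nA && Nat.beq (s * c) k && r != 2 && Nat.beq (nA % r) (s % r) && nA % r != 0 && k % r != 0

theorem int_not_dvd {r a : ℕ} (h : ¬ r ∣ a) : ¬ (r : ℤ) ∣ (a : ℤ) := fun h' => h (by exact_mod_cast h')

/-- **A column.** -/
theorem col {r : ℕ} (hr : r.Prime) {k c e f s : ℕ} (hcol : colOK r k c e f s = true) {x : MG} (hx : orderOf x = r)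
    (hC : Nat.card (centralizer ({x} : Set MG)) = r * k)
    (hT : ∀ t : MG, TA t → t * x = x * t →
      Nat.card (centralizer ({x} : Set MG) ⊓ centralizer ({t} : Set MG) : Subgroup MG) = r * c)
    (χ : IrrCharacter MG) (hre : ∀ g : MG, conj ((χ : MG → ℂ) g) = (χ : MG → ℂ) g) {t : MG} (ht : TA t) {b : ℤ}
    (hb : (χ : MG → ℂ) t = b) :
    Ty r (charDegree (χ : MG → ℂ)) b 0 0 ∨
    ∃ (K : Subgroup MG) (O : Finset (IrrCharacter K)) (t0 : K) (m n : ℕ) (τ : ℤ),
      Nonempty (K ≃* XX x) ∧ Nat.card K = k ∧ t0 * t0 = 1 ∧ Nat.card (centralizer ({t0} : Set K)) = c ∧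
      O.Nonempty ∧ O.card = m ∧ (∀ θ ∈ O, (θ : K → ℂ) 1 = n ∧ (θ : K → ℂ) t0 = τ) ∧ Pair k c e m n τ ∧
      (Ty r (charDegree (χ : MG → ℂ)) b (m * n) (m * τ) ∨
        ((m = 1 → Even e) ∧ Ty r (charDegree (χ : MG → ℂ)) b (e * n) (e * τ))) := by
  have hF : Fact r.Prime := ⟨hr⟩
  simp only [colOK, Bool.and_eq_true, Nat.beq_eq, bne_iff_ne, ne_eq] at hcol
  obtain ⟨⟨⟨⟨⟨⟨hnum, hs⟩, hcs⟩, hr2⟩, hmod⟩, hA⟩, hkr⟩ := hcol
  have hA' : ¬ (r : ℤ) ∣ (nA : ℤ) := int_not_dvd fun h => hA (Nat.mod_eq_zero_of_dvd h)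
  obtain ⟨w, hw1, hw2⟩ := omega_int χ t hb
  rw [index_A ht] at hw2
  have hw3 : w * (charDegree (χ : MG → ℂ) : ℤ) = (nA : ℤ) * b := by rw [← hw2]; ring
  by_cases hd : r ∣ charDegree (χ : MG → ℂ)
  · left
    exact ty_zero hr (by exact_mod_cast hd) hw3 hA'
  · right
    have htt : t * t = 1 := by
      rw [← pow_two, ← H58.Cop.MLow.orderOf_ta ht, pow_orderOf_eq_one]
    obtain ⟨K, O, t0, m, n, τ, hK, hk, h2, hct, hO, hm, hval, hp, hres, hcon⟩ :=
      Loc.data not_comm_MG (N := NM) card_M hx hC e f hnum htt hr2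
        (index_A ht) hcs (fun u hu hux => hT u (ta_of_isConj ht hu) hux) hs χ hre hd hw1
    have hn : ¬ r ∣ n := fun h => hkr (Nat.mod_eq_zero_of_dvd (h.trans hp.nk))
    have hsA : (r : ℤ) ∣ (nA : ℤ) - (s : ℤ) := (Nat.modEq_iff_dvd.1 (show s % r = nA % r from hmod.symm))
    exact ⟨K, O, t0, m, n, τ, comp_iso hx hK hk hC, hk, h2, hct, hO, hm, hval, hp,
      ty_of hr hres hn hcon hw3 hsA hA'⟩

/-- an element of prime order -/
theorem exists_x {r : ℕ} (hr : r.Prime) (hd : r ∣ 808017424794512875886459904961710757005754368000000000) :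
    ∃ x : MG, orderOf x = r := by
  have hF : Fact r.Prime := ⟨hr⟩
  exact exists_prime_orderOf_dvd_card' (G := MG) r (by rw [card_M]; exact hd)

/-- the degree as an integer -/
theorem deg_eq (X : IrrCharacter MG) {d : ℤ} (hd : (X : MG → ℂ) 1 = d) : (charDegree (X : MG → ℂ) : ℤ) = d := by
  have h1 : (X : MG → ℂ) 1 = (charDegree (X : MG → ℂ) : ℂ) := Blocks.Knorr.charDegree_eq X.2
  rw [hd] at h1
  exact_mod_cast h1.symm

/-- the two cases, `e = -1` modulo `p` -/
theorem cases_of {r e m n : ℕ} {τ d b : ℤ} (he : e + 1 = r)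
    (h : Ty r d b (m * n) (m * τ) ∨ ((m = 1 → Even e) ∧ Ty r d b (e * n) (e * τ))) :
    Ty r d b (m * n) (m * τ) ∨ Ty r d b n τ := by
  rcases h with h | ⟨-, h⟩
  · exact Or.inl h
  · exact Or.inr (ty_neg (by exact_mod_cast he) h)

/-- **17** -/
theorem t17 (X : IrrCharacter MG) {d b : ℤ} {t : MG} (ht : TA t) (hre : ∀ g : MG, conj ((X : MG → ℂ) g) = (X : MG → ℂ) g)
    (hd : (X : MG → ℂ) 1 = d) (hb : (X : MG → ℂ) t = b) :
    Ty 17 d b 0 0 ∨ Ty 17 d b 1 1 ∨ Ty 17 d b 6 2 ∨ Ty 17 d b 6 (-2) ∨ Ty 17 d b 7 (-1) ∨ Ty 17 d b 8 0 ∨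
      Ty 17 d b 3 (-1) := by
  obtain ⟨x, hx⟩ := exists_x (r := 17) (by norm_num) (by norm_num)
  have h := col (r := 17) (by norm_num) (k := 168) (c := 8) (e := 16) (f := 1) (s := 21) (by decide +kernel) hx
    (by rw [H715.Mon.Exact.card17 sThree hx])
    (fun t ht htx => by rw [H529.MSev.L17.inf17 hx (H58.Cop.MLow.orderOf_ta ht) htx]) X hre ht hb
  rw [deg_eq X hd] at h
  rcases h with h | ⟨K, O, t0, m, n, τ, ⟨e⟩, -, h2, hct, hO, hm, hval, -, h⟩
  · exact Or.inl (by simpa using h)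
  · right
    obtain ⟨e'⟩ := H715.Mon.Norm.iso17 sThree hx
    have key := k17 (e.trans e') h2 hct O hO hval
    rw [hm] at key
    have h' := cases_of (r := 17) (by norm_num) h
    simp only [List.mem_cons, Prod.mk.injEq, List.not_mem_nil, or_false] at key
    rcases key with ⟨rfl, rfl, rfl⟩ | ⟨rfl, rfl, rfl⟩ | ⟨rfl, rfl, rfl⟩ | ⟨rfl, rfl, rfl⟩ | ⟨rfl, rfl, rfl⟩ |
      ⟨rfl, rfl, rfl⟩ <;> norm_num at h' <;> first | simp [h'] | (rcases h' with h' | h' <;> simp [h'])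

/-- **19** -/
theorem t19 (X : IrrCharacter MG) {d b : ℤ} {t : MG} (ht : TA t) (hre : ∀ g : MG, conj ((X : MG → ℂ) g) = (X : MG → ℂ) g)
    (hd : (X : MG → ℂ) 1 = d) (hb : (X : MG → ℂ) t = b) :
    Ty 19 d b 0 0 ∨ Ty 19 d b 1 1 ∨ Ty 19 d b 4 0 ∨ Ty 19 d b 5 1 ∨ Ty 19 d b 3 (-1) ∨ Ty 19 d b 6 (-2) := by
  obtain ⟨x, hx⟩ := exists_x (r := 19) (by norm_num) (by norm_num)
  have h := col (r := 19) (by norm_num) (k := 60) (c := 4) (e := 18) (f := 1) (s := 15) (by decide +kernel) hx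
    (by rw [H715.Mon.Exact.card19' sThree hx])
    (fun t ht htx => by rw [H715.Mon.Exact.inf19 sThree hx (H58.Cop.MLow.orderOf_ta ht) htx]) X hre ht hb
  rw [deg_eq X hd] at h
  rcases h with h | ⟨K, O, t0, m, n, τ, ⟨e⟩, -, h2, hct, hO, hm, hval, -, h⟩
  · exact Or.inl (by simpa using h)
  · right
    obtain ⟨e'⟩ := H715.Mon.Exact.iso19 sThree hx
    have key := k19 (e.trans e') h2 hct O hO hval
    rw [hm] at key
    have h' := cases_of (r := 19) (by norm_num) h
    simp only [List.mem_cons, Prod.mk.injEq, List.not_mem_nil, or_false] at key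
    rcases key with ⟨rfl, rfl, rfl⟩ | ⟨rfl, rfl, rfl⟩ | ⟨rfl, rfl, rfl⟩ | ⟨rfl, rfl, rfl⟩ |
      ⟨rfl, rfl, rfl⟩ <;> norm_num at h' <;> first | simp [h'] | (rcases h' with h' | h' <;> simp [h'])

/-- the element of order 3 of `C(y)/⟨y⟩`, `y` of order 23 -/
theorem exists_v {y : MG} (hy : orderOf y = 23) : ∃ v : XX y, Nat.card (centralizer ({v} : Set (XX y))) = 3 := by
  have h23 : Nat.Prime 23 := by norm_num
  have hsq : ¬ 23 ^ 2 ∣ Nat.card MG := by rw [card_M]; norm_num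
  obtain ⟨v, hv, hvy⟩ := H241.Mon.exists_three (r := 23) h23 (by norm_num) hsq H241.Mon.fi23 hy
  obtain ⟨k1, k2⟩ := hvy.quot Nat.prime_three h23 (by norm_num) hv hy
  generalize mk y hvy.1 = v' at k1 k2
  refine ⟨v', ?_⟩
  have h1 : centralizer ({v'} : Set (XX y)) = zpowers v' := by
    ext g
    rw [mem_centralizer_singleton_iff]
    refine ⟨fun h => k2 g h, fun h => ?_⟩
    obtain ⟨i, rfl⟩ := mem_zpowers_iff.1 h
    exact ((Commute.refl v').zpow_left i).eq
  rw [h1, Nat.card_zpowers, k1]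

/-- **23** -/
theorem t23 (X : IrrCharacter MG) {d b : ℤ} {t : MG} (ht : TA t) (hre : ∀ g : MG, conj ((X : MG → ℂ) g) = (X : MG → ℂ) g)
    (hd : (X : MG → ℂ) 1 = d) (hb : (X : MG → ℂ) t = b) :
    Ty 23 d b 0 0 ∨ Ty 23 d b 1 1 ∨ Ty 23 d b 1 (-1) ∨ Ty 23 d b 2 0 ∨ Ty 23 d b 3 1 ∨ Ty 23 d b 3 (-1) := by
  obtain ⟨x, hx⟩ := exists_x (r := 23) (by norm_num) (by norm_num)
  have h := col (r := 23) (by norm_num) (k := 24) (c := 4) (e := 11) (f := 2) (s := 6) (by decide +kernel) hx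
    (by rw [H715.Mon.Exact.card23 sThree hx])
    (fun t ht htx => by
      rw [(H715.Mon.Exact.main23 sThree hx (H58.Cop.MLow.orderOf_ta ht) htx (by rw [card_cent_t ht])).2]) X hre ht hb
  rw [deg_eq X hd] at h
  rcases h with h | ⟨K, O, t0, m, n, τ, ⟨e⟩, hk, -, -, ⟨θ, hθ⟩, -, hval, hp, h⟩
  · exact Or.inl (by simpa using h)
  · right
    have key := mem_of_pair (L := [(1, 1, 1), (1, 1, -1), (1, 2, 0), (1, 3, 1), (1, 3, -1), (1, 4, 0)])
      (by decide +kernel) (by norm_num) (by norm_num) (by norm_num) hp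
    simp only [List.mem_cons, Prod.mk.injEq, List.not_mem_nil, or_false] at key
    obtain ⟨v, hv⟩ := exists_v hx
    have h4 : n ≠ 4 := by
      rintro rfl
      have h5 : Nat.card (centralizer ({e.symm v} : Set K)) = 3 := by
        rw [LThreeB.card_centralizer_congr e, e.apply_symm_apply, hv]
      apply no_four hk h5 θ
      have h6 := (hval θ hθ).1
      have h7 : (θ : K → ℂ) 1 = (charDegree (θ : K → ℂ) : ℂ) := Blocks.Knorr.charDegree_eq θ.2
      rw [h7] at h6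
      exact_mod_cast h6
    have hm1 : m = 1 := by rcases key with h | h | h | h | h | h <;> exact h.1
    subst hm1
    have h' := h.resolve_right fun h => absurd (h.1 rfl) (by decide)
    rcases key with ⟨-, rfl, rfl⟩ | ⟨-, rfl, rfl⟩ | ⟨-, rfl, rfl⟩ | ⟨-, rfl, rfl⟩ | ⟨-, rfl, rfl⟩ | ⟨-, rfl, rfl⟩
    · norm_num at h'; simp [h']
    · norm_num at h'; simp [h']
    · norm_num at h'; simp [h']
    · norm_num at h'; simp [h']
    · norm_num at h'; simp [h']
    · exact absurd rfl h4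

/-- **31** -/
theorem t31 (X : IrrCharacter MG) {d b : ℤ} {t : MG} (ht : TA t) (hre : ∀ g : MG, conj ((X : MG → ℂ) g) = (X : MG → ℂ) g)
    (hd : (X : MG → ℂ) 1 = d) (hb : (X : MG → ℂ) t = b) :
    Ty 31 d b 0 0 ∨ Ty 31 d b 1 1 ∨ Ty 31 d b 1 (-1) ∨ Ty 31 d b 2 0 := by
  obtain ⟨x, hx⟩ := exists_x (r := 31) (by norm_num) (by norm_num)
  have h := col (r := 31) (by norm_num) (k := 6) (c := 2) (e := 15) (f := 2) (s := 3) (by decide +kernel) hx
    (by rw [H715.Mon.Cent.card31 sThree hx])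
    (fun t ht htx => by rw [H715.Mon.Inf.inf31 sThree hx (H58.Cop.MLow.orderOf_ta ht) htx]) X hre ht hb
  rw [deg_eq X hd] at h
  rcases h with h | ⟨K, O, t0, m, n, τ, -, -, -, -, -, -, -, hp, h⟩
  · exact Or.inl (by simpa using h)
  · right
    have key := mem_of_pair (L := [(1, 1, 1), (1, 1, -1), (1, 2, 0)]) (by decide +kernel) (by norm_num) (by norm_num)
      (by norm_num) hp
    simp only [List.mem_cons, Prod.mk.injEq, List.not_mem_nil, or_false] at key
    have hm1 : m = 1 := by rcases key with h | h | h <;> exact h.1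
    subst hm1
    have h' := h.resolve_right fun h => absurd (h.1 rfl) (by decide)
    rcases key with ⟨-, rfl, rfl⟩ | ⟨-, rfl, rfl⟩ | ⟨-, rfl, rfl⟩ <;> norm_num at h' <;> simp [h']

/-- **47** -/
theorem t47_of {x : MG} (hx : orderOf x = 47) (hC : Nat.card (centralizer ({x} : Set MG)) = 47 * 2)
    (X : IrrCharacter MG) {d b : ℤ} {t : MG} (ht : TA t) (hre : ∀ g : MG, conj ((X : MG → ℂ) g) = (X : MG → ℂ) g)
    (hd : (X : MG → ℂ) 1 = d) (hb : (X : MG → ℂ) t = b) :
    Ty 47 d b 0 0 ∨ Ty 47 d b 1 1 ∨ Ty 47 d b 1 (-1) := by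
  have h := col (r := 47) (by norm_num) (k := 2) (c := 2) (e := 23) (f := 2) (s := 1) (by decide +kernel) hx hC
    (fun t ht htx => by
      -- `⟨x, t⟩` is in the intersection
      rw [← hC]
      have ht2 : orderOf t = 2 := H58.Cop.MLow.orderOf_ta ht
      set H : Subgroup MG := centralizer ({x} : Set MG) ⊓ centralizer ({t} : Set MG) with hH
      have hxH : x ∈ H := ⟨mem_centralizer_singleton_iff.2 rfl, mem_centralizer_singleton_iff.2 htx.symm⟩
      have htH : t ∈ H := ⟨mem_centralizer_singleton_iff.2 htx, mem_centralizer_singleton_iff.2 rfl⟩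
      have d47 : 47 ∣ Nat.card H := by
        rw [← hx, ← Subgroup.orderOf_mk x hxH]; exact orderOf_dvd_natCard _
      have d2 : 2 ∣ Nat.card H := by
        rw [← ht2, ← Subgroup.orderOf_mk t htH]; exact orderOf_dvd_natCard _
      have hd : Nat.card H ∣ Nat.card (centralizer ({x} : Set MG)) := card_dvd_of_le inf_le_left
      refine Nat.dvd_antisymm hd ?_
      rw [hC]
      exact Nat.Coprime.mul_dvd_of_dvd_of_dvd (by norm_num) d47 d2) X hre ht hb
  rw [deg_eq X hd] at h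
  rcases h with h | ⟨K, O, t0, m, n, τ, -, -, -, -, -, -, -, hp, h⟩
  · exact Or.inl (by simpa using h)
  · right
    have key := mem_of_pair (L := [(1, 1, 1), (1, 1, -1)]) (by decide +kernel) (by norm_num) (by norm_num)
      (by norm_num) hp
    simp only [List.mem_cons, Prod.mk.injEq, List.not_mem_nil, or_false] at key
    have hm1 : m = 1 := by rcases key with h | h <;> exact h.1
    subst hm1
    have h' := h.resolve_right fun h => absurd (h.1 rfl) (by decide)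
    rcases key with ⟨-, rfl, rfl⟩ | ⟨-, rfl, rfl⟩ <;> norm_num at h' <;> simp [h']

/-- the degree modulo a prime with `C(x) = ⟨x⟩` -/
theorem deg_self {r : ℕ} (hr : r.Prime) (hr2 : r ≠ 2) {e f : ℕ} (hnum : eOK NM r 1 e f = true)
    (hcase : ¬ Even e ∨ e + 1 = r) {x : MG} (hx : orderOf x = r) (hC : Nat.card (centralizer ({x} : Set MG)) = r)
    (X : IrrCharacter MG) {d : ℤ} (hre : ∀ g : MG, conj ((X : MG → ℂ) g) = (X : MG → ℂ) g) (hd : (X : MG → ℂ) 1 = d) :
    (r : ℤ) ∣ d ∨ (r : ℤ) ∣ d - 1 ∨ (r : ℤ) ∣ d + 1 := by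
  have hF : Fact r.Prime := ⟨hr⟩
  have hdeg := deg_eq X hd
  by_cases h : r ∣ charDegree (X : MG → ℂ)
  · left; rw [← hdeg]; exact_mod_cast h
  · right
    obtain ⟨m, n, hm, hn, -, -, h1, -, h2⟩ := Loc.residue not_comm_MG (N := NM) card_M hx
      (by rw [hC, mul_one]) e f hnum hr2 X hre h
    rw [hdeg] at h2
    have hn1 : n = 1 := by
      have : n ≤ m * (n * n) := by nlinarith
      omega
    subst hn1
    have hm1 : m = 1 := by omega
    subst hm1
    rcases h2 with h2 | ⟨h2, h3⟩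
    · simpa using h2
    · rcases hcase with h4 | h4
      · exact absurd (h2 rfl) h4
      · have he : ((e : ℤ) + 1) = (r : ℤ) := by exact_mod_cast h4
        rcases h3 with h3 | h3
        · right
          have : d + 1 = (d - (e : ℤ) * (1 : ℕ)) + r := by rw [← he]; push_cast; ring
          rw [this]
          exact dvd_add h3 (dvd_refl _)
        · left
          have : d - 1 = (d + (e : ℤ) * (1 : ℕ)) - r := by rw [← he]; push_cast; ring
          rw [this]
          exact dvd_sub h3 (dvd_refl _)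

/-- **29** -/
theorem t29_of {x : MG} (hx : orderOf x = 29) (hC : Nat.card (centralizer ({x} : Set MG)) = 29 * 3)
    (X : IrrCharacter MG) {d : ℤ} (hre : ∀ g : MG, conj ((X : MG → ℂ) g) = (X : MG → ℂ) g) (hd : (X : MG → ℂ) 1 = d) :
    (29 : ℤ) ∣ d ∨ (29 : ℤ) ∣ d - 1 ∨ (29 : ℤ) ∣ d + 1 ∨ (29 : ℤ) ∣ d - 2 ∨ (29 : ℤ) ∣ d + 2 := by
  have hF : Fact (Nat.Prime 29) := ⟨by norm_num⟩
  have hdeg := deg_eq X hd
  by_cases h : 29 ∣ charDegree (X : MG → ℂ)
  · left; rw [← hdeg]; exact_mod_cast h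
  · right
    obtain ⟨m, n, hm, hn, -, -, h1, h0, h2⟩ := Loc.residue not_comm_MG (N := NM) card_M hx
      hC 28 1 (by decide +kernel) (by norm_num) X hre h
    rw [hdeg] at h2
    have hn1 : n = 1 := by
      have h3 : n * n ≤ m * (n * n) := Nat.le_mul_of_pos_left _ hm
      by_contra h4
      have : 2 * 2 ≤ n * n := Nat.mul_le_mul (by omega) (by omega)
      omega
    subst hn1
    have hm2 : m = 1 ∨ m = 2 := by
      by_cases h3 : m = 1
      · exact Or.inl h3
      · have := h0 (Or.inr h3)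
        omega
    rcases hm2 with rfl | rfl <;> rcases h2 with (h2 | h2) | ⟨-, h2 | h2⟩ <;> push_cast at h2 <;> omega

/-- **The type fields**, the centralizers as hypotheses. -/
structure Cents : Prop where
  c29 : ∀ x : MG, orderOf x = 29 → Nat.card (centralizer ({x} : Set MG)) = 29 * 3
  c41 : ∀ x : MG, orderOf x = 41 → Nat.card (centralizer ({x} : Set MG)) = 41
  c47 : ∀ x : MG, orderOf x = 47 → Nat.card (centralizer ({x} : Set MG)) = 47 * 2
  c59 : ∀ x : MG, orderOf x = 59 → Nat.card (centralizer ({x} : Set MG)) = 59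
  c71 : ∀ x : MG, orderOf x = 71 → Nat.card (centralizer ({x} : Set MG)) = 71

end Cfsg.Agent.H792.M23.Ty
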