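import Cfsg.Agent.H792.M23.Ty
import Cfsg.Agent.H164.M23.Cent
import Cfsg.Agent.H691.M23.Main

/-!
# The types of (M,23): 29, 41, 47, 59, 71 without hypotheses; the structure `Late` (helper792)
-/

set_option autoImplicit false
set_option linter.unusedSectionVars false
set_option maxRecDepth 100000

open Cfsg Subgroup
open scoped ComplexConjugate

namespace Cfsg.Agent.H792.M23.Ty

open Cfsg.Agent.MonsterX Cfsg.Agent.MonsterX.InstData Cfsg.Agent.MonsterX.MainPack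
open Cfsg.Agent.BpSpor.MBigModel
open Cfsg.Agent.LThreeB.Row (TA)
open Cfsg.Agent.H924.M23

/-- **47** -/
theorem t47 (X : IrrCharacter MG) {d b : ℤ} {t : MG} (ht : TA t) (hre : ∀ g : MG, conj ((X : MG → ℂ) g) = (X : MG → ℂ) g)
    (hd : (X : MG → ℂ) 1 = d) (hb : (X : MG → ℂ) t = b) :
    Ty 47 d b 0 0 ∨ Ty 47 d b 1 1 ∨ Ty 47 d b 1 (-1) := by
  obtain ⟨x, hx⟩ := exists_x (r := 47) (by norm_num) (by norm_num)
  exact t47_of hx (H164.M23.c47 hx) X ht hre hd hb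

/-- **29** -/
theorem t29 (X : IrrCharacter MG) {d : ℤ} (hre : ∀ g : MG, conj ((X : MG → ℂ) g) = (X : MG → ℂ) g)
    (hd : (X : MG → ℂ) 1 = d) :
    (29 : ℤ) ∣ d ∨ (29 : ℤ) ∣ d - 1 ∨ (29 : ℤ) ∣ d + 1 ∨ (29 : ℤ) ∣ d - 2 ∨ (29 : ℤ) ∣ d + 2 := by
  obtain ⟨x, hx⟩ := exists_x (r := 29) (by norm_num) (by norm_num)
  exact t29_of hx (H164.M23.c29 hx) X hre hd

/-- **41** -/
theorem t41 (X : IrrCharacter MG) {d : ℤ} (hre : ∀ g : MG, conj ((X : MG → ℂ) g) = (X : MG → ℂ) g)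
    (hd : (X : MG → ℂ) 1 = d) : (41 : ℤ) ∣ d ∨ (41 : ℤ) ∣ d - 1 ∨ (41 : ℤ) ∣ d + 1 := by
  obtain ⟨x, hx⟩ := exists_x (r := 41) (by norm_num) (by norm_num)
  exact deg_self (r := 41) (by norm_num) (by norm_num) (e := 40) (f := 1) (by decide +kernel) (Or.inr (by norm_num)) hx
    (H164.M23.c41 hx) X hre hd

/-- **59** -/
theorem t59 (X : IrrCharacter MG) {d : ℤ} (hre : ∀ g : MG, conj ((X : MG → ℂ) g) = (X : MG → ℂ) g)
    (hd : (X : MG → ℂ) 1 = d) : (59 : ℤ) ∣ d ∨ (59 : ℤ) ∣ d - 1 ∨ (59 : ℤ) ∣ d + 1 := by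
  obtain ⟨x, hx⟩ := exists_x (r := 59) (by norm_num) (by norm_num)
  exact deg_self (r := 59) (by norm_num) (by norm_num) (e := 29) (f := 2) (by decide +kernel) (Or.inl (by decide)) hx
    (H164.M23.c59 hx) X hre hd

/-- **71** -/
theorem t71 (X : IrrCharacter MG) {d : ℤ} (hre : ∀ g : MG, conj ((X : MG → ℂ) g) = (X : MG → ℂ) g)
    (hd : (X : MG → ℂ) 1 = d) : (71 : ℤ) ∣ d ∨ (71 : ℤ) ∣ d - 1 ∨ (71 : ℤ) ∣ d + 1 := by
  obtain ⟨x, hx⟩ := exists_x (r := 71) (by norm_num) (by norm_num)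
  exact deg_self (r := 71) (by norm_num) (by norm_num) (e := 35) (f := 2) (by decide +kernel) (Or.inl (by decide)) hx
    (H164.M23.c71 hx) X hre hd

/-- **The structure `Late`** from its first two fields. -/
theorem late {t : MG} (ht : TA t)
    (two : ∀ (X : IrrCharacter MG) {d b : ℤ}, (X : MG → ℂ) 1 = d → (X : MG → ℂ) t = b → (4096 : ℤ) ∣ d - b)
    (sq : ∀ (X : IrrCharacter MG) {d b : ℤ}, H691.M23.RV X → (X : MG → ℂ) 1 = d → (X : MG → ℂ) t = b →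
      cA * b ^ 2 ≤ d * (d + 27143910000 * |b| + 8 * 10 ^ 28)) : H691.M23.Late t where
  two := two
  sq := sq
  t17 X _ _ h1 h2 h3 := t17 X ht h1 h2 h3
  t19 X _ _ h1 h2 h3 := t19 X ht h1 h2 h3
  t23 X _ _ h1 h2 h3 := t23 X ht h1 h2 h3
  t31 X _ _ h1 h2 h3 := t31 X ht h1 h2 h3
  t47 X _ _ h1 h2 h3 := t47 X ht h1 h2 h3
  t29 X _ _ h1 h2 _ := t29 X h1 h2
  t41 X _ _ h1 h2 _ := t41 X h1 h2
  t59 X _ _ h1 h2 _ := t59 X h1 h2
  t71 X _ _ h1 h2 _ := t71 X h1 h2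

end Cfsg.Agent.H792.M23.Ty
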