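import Cfsg.Agent.H792.M23.Loc
import Cfsg.Agent.H924.M23.Facts
import Cfsg.Agent.LThreeMB.Quo
import Cfsg.Agent.LThreeB.FromM

/-!
# The types of (M,23): arithmetic, complement and quotient, groups of order 24 (helper792)
-/

set_option autoImplicit false
set_option linter.unusedSectionVars false

open Cfsg Subgroup
open scoped ComplexConjugate

namespace Cfsg.Agent.H792.M23.TyA

open Cfsg.Agent.Characters.Core
open Cfsg.Agent.SmallSimple.ThetaSetup
open Cfsg.Agent.H606.OreM.Exact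
open Cfsg.Agent.H792.M23.Loc Cfsg.Agent.H924.M23
open Cfsg.Agent.LThreeMB (XX mk Zx self)

universe u

/-! ### Arithmetic -/

/-- **The type from the two cases.** -/
theorem ty_of {p : ℕ} (hp : p.Prime) {m n e : ℕ} {τ d b w s A : ℤ} (hd : Cases p m n e d) (hn : ¬ p ∣ n)
    (hcon : (p : ℤ) ∣ n * w - s * τ) (hw : w * d = A * b) (hs : (p : ℤ) ∣ A - s) (hA : ¬ (p : ℤ) ∣ A) :
    Ty p d b (m * n) (m * τ) ∨ ((m = 1 → Even e) ∧ Ty p d b (e * n) (e * τ)) := by
  have hpi : Prime (p : ℤ) := Nat.prime_iff_prime_int.1 hp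
  have hn' : ¬ (p : ℤ) ∣ n := fun h => hn (by exact_mod_cast h)
  have h1 : (p : ℤ) ∣ n * b - τ * d := by
    have h2 : (p : ℤ) ∣ A * (n * b - τ * d) := by
      have h3 : A * (n * b - τ * d) = d * (n * w - s * τ) - d * τ * (A - s) := by
        linear_combination (-(n : ℤ)) * hw
      rw [h3]
      exact dvd_sub (Dvd.dvd.mul_left hcon _) (Dvd.dvd.mul_left hs _)
    exact (hpi.dvd_or_dvd h2).resolve_left hA
  have key : ∀ r : ℤ, (p : ℤ) ∣ d - r * n → (p : ℤ) ∣ b - r * τ := by
    intro r h2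
    have h3 : (p : ℤ) ∣ n * (b - r * τ) := by
      have h4 : n * (b - r * τ) = (n * b - τ * d) + τ * (d - r * n) := by ring
      rw [h4]
      exact dvd_add h1 (Dvd.dvd.mul_left h2 _)
    exact (hpi.dvd_or_dvd h3).resolve_left hn'
  have key2 : ∀ r : ℤ, (p : ℤ) ∣ d + r * n → (p : ℤ) ∣ b + r * τ := by
    intro r h2
    have h3 := key (-r) (by rw [neg_mul, sub_neg_eq_add]; exact h2)
    rwa [neg_mul, sub_neg_eq_add] at h3
  rcases hd with (h | h) | ⟨h0, h | h⟩
  · exact Or.inl (Or.inl ⟨h, key m h⟩)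
  · exact Or.inl (Or.inr ⟨h, key2 m h⟩)
  · exact Or.inr ⟨h0, Or.inl ⟨h, key e h⟩⟩
  · exact Or.inr ⟨h0, Or.inr ⟨h, key2 e h⟩⟩

theorem ty_zero {p : ℕ} (hp : p.Prime) {d b w A : ℤ} (hd : (p : ℤ) ∣ d) (hw : w * d = A * b) (hA : ¬ (p : ℤ) ∣ A) :
    Ty p d b 0 0 := by
  have hpi : Prime (p : ℤ) := Nat.prime_iff_prime_int.1 hp
  have h1 : (p : ℤ) ∣ A * b := by rw [← hw]; exact Dvd.dvd.mul_left hd _
  left
  rw [sub_zero, sub_zero]
  exact ⟨hd, (hpi.dvd_or_dvd h1).resolve_left hA⟩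

/-- `e = -1` modulo `p` -/
theorem ty_neg {p : ℤ} {e n τ d b : ℤ} (he : e + 1 = p) (h : Ty p d b (e * n) (e * τ)) : Ty p d b n τ := by
  have k1 : ∀ z a : ℤ, p ∣ z - e * a → p ∣ z + a := by
    intro z a h
    have : z + a = (z - e * a) + p * a := by rw [← he]; ring
    rw [this]
    exact dvd_add h (dvd_mul_right _ _)
  have k2 : ∀ z a : ℤ, p ∣ z + e * a → p ∣ z - a := by
    intro z a h
    have : z - a = (z + e * a) - p * a := by rw [← he]; ring
    rw [this]
    exact dvd_sub h (dvd_mul_right _ _)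
  rcases h with ⟨h1, h2⟩ | ⟨h1, h2⟩
  · exact Or.inr ⟨k1 _ _ h1, k1 _ _ h2⟩
  · exact Or.inl ⟨k2 _ _ h1, k2 _ _ h2⟩

/-- The list contains all the pairs. -/
def pairOK (k c e : ℕ) (L : List (ℕ × ℕ × ℤ)) : Bool :=
  (List.range (e + 1)).all fun m => (List.range (k + 1)).all fun n =>
    (m == 0 || n == 0 || e % m != 0 || k % n != 0) ||
    (List.range (2 * c + 1)).all fun j =>
      ((n + j + c) % 2 != 0 || !((m == 1 && n == 1 && j == c + 1) ||
        (Nat.ble (m * (n * n) + 1) k && decide ((m : ℤ) * (((j : ℤ) - c) * ((j : ℤ) - c)) + 1 ≤ c)))) ||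
      L.contains (m, n, (j : ℤ) - c)

theorem mem_of_pair {k c e : ℕ} {L : List (ℕ × ℕ × ℤ)} (hT : pairOK k c e L = true) (he : 0 < e) (hk : 0 < k)
    (hc0 : 0 < c) {m n : ℕ} {τ : ℤ} (hp : Pair k c e m n τ) : (m, n, τ) ∈ L := by
  obtain ⟨hm0, hn0, hme, hnk, hpar, hsq⟩ := hp
  have hmr : m < e + 1 := Nat.lt_succ_of_le (Nat.le_of_dvd he hme)
  have hnr : n < k + 1 := Nat.lt_succ_of_le (Nat.le_of_dvd hk hnk)
  have h1 := List.all_eq_true.1 (List.all_eq_true.1 hT m (List.mem_range.2 hmr)) n (List.mem_range.2 hnr)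
  rw [Bool.or_eq_true] at h1
  have h2 : ¬ ((m == 0 || n == 0 || e % m != 0 || k % n != 0) = true) := by
    have e1 : (m == 0) = false := by simp; omega
    have e2 : (n == 0) = false := by simp; omega
    have e3 : (e % m != 0) = false := by simp [Nat.mod_eq_zero_of_dvd hme]
    have e4 : (k % n != 0) = false := by simp [Nat.mod_eq_zero_of_dvd hnk]
    rw [e1, e2, e3, e4]
    simp
  have h5 := h1.resolve_left h2
  have hc1 : -(c : ℤ) ≤ τ ∧ τ ≤ c := by
    rcases hsq with ⟨-, -, h⟩ | ⟨-, h⟩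
    · subst h
      constructor <;> omega
    · have hm1 : (1 : ℤ) ≤ m := by exact_mod_cast hm0
      have h6 : τ * τ ≤ c := by nlinarith [mul_self_nonneg τ]
      constructor
      · by_contra h7
        push Not at h7
        nlinarith
      · by_contra h7
        push Not at h7
        nlinarith
  obtain ⟨j, hj⟩ : ∃ j : ℕ, (j : ℤ) = τ + c := ⟨(τ + c).toNat, Int.toNat_of_nonneg (by omega)⟩
  have hjr : j < 2 * c + 1 := by omega
  have h6 := List.all_eq_true.1 h5 j (List.mem_range.2 hjr)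
  rw [Bool.or_eq_true] at h6
  have hjc : (j : ℤ) - c = τ := by omega
  have h7 : ¬ (((n + j + c) % 2 != 0 || !((m == 1 && n == 1 && j == c + 1) ||
        (Nat.ble (m * (n * n) + 1) k && decide ((m : ℤ) * (((j : ℤ) - c) * ((j : ℤ) - c)) + 1 ≤ c)))) = true) := by
    have e1 : ((n + j + c) % 2 != 0) = false := by
      have : (n + j + c) % 2 = 0 := by omega
      simp [this]
    rw [e1, Bool.false_or, Bool.not_eq_true', Bool.eq_false_iff, not_not, Bool.or_eq_true]
    rcases hsq with ⟨h8, h9, h10⟩ | ⟨h8, h9⟩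
    · left
      have : j = c + 1 := by omega
      simp [h8, h9, this]
    · right
      rw [Bool.and_eq_true, Nat.ble_eq, decide_eq_true_eq, hjc]
      exact ⟨h8, h9⟩
  have h8 := h6.resolve_left h7
  rw [hjc] at h8
  exact List.contains_iff_mem.1 h8

/-! ### The complement -/

/-- The complement is the quotient of the centralizer. -/
theorem comp_iso {G : Type u} [Group G] [Finite G] {p : ℕ} [hp : Fact p.Prime] {K : Subgroup G} {x : G} {k : ℕ}
    (hx : orderOf x = p) (hK : IsComp p (zpowers x) K) (hk : Nat.card K = k)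
    (hc : Nat.card (centralizer ({x} : Set G)) = p * k) : Nonempty (K ≃* XX x) := by
  have hle : K ≤ centralizer ({x} : Set G) := by
    intro y hy
    have h1 := ((hK y).1 hy).1
    rw [SmallSimple.SelfCentPrime.centralizer_zpowers] at h1
    exact h1
  let f : K →* XX x := (QuotientGroup.mk' (Zx x)).comp (Subgroup.inclusion hle)
  have hf : Function.Injective f := by
    rw [injective_iff_map_eq_one]
    intro y hy
    have h1 : Subgroup.inclusion hle y ∈ Zx x := (QuotientGroup.eq_one_iff _).1 hy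
    have h2 : (y : G) ∈ zpowers x := by
      obtain ⟨i, hi⟩ := mem_zpowers_iff.1 (show Subgroup.inclusion hle y ∈ zpowers (self x) from h1)
      exact mem_zpowers_iff.2 ⟨i, congrArg Subtype.val hi⟩
    have h3 : orderOf (y : G) ∣ p := by
      rw [← hx]
      exact orderOf_dvd_of_mem_zpowers h2
    rcases (Nat.dvd_prime hp.out).1 h3 with h4 | h4
    · exact Subtype.ext (orderOf_eq_one_iff.1 h4)
    · exact absurd (by rw [h4]) ((hK y).1 y.2).2
  have hcard : Nat.card (XX x) = k := by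
    have h1 := (Zx x).card_eq_card_quotient_mul_card_subgroup
    have h2 : Nat.card (Zx x) = p := by
      show Nat.card (zpowers (self x)) = p
      rw [Nat.card_zpowers, ← hx]
      exact Subgroup.orderOf_mk x _
    have h3 : Nat.card ↥(centralizer ({x} : Set G)) = Nat.card (XX x) * Nat.card (Zx x) := h1
    rw [hc, h2, mul_comm] at h3
    exact (Nat.eq_of_mul_eq_mul_right hp.out.pos h3).symm
  exact ⟨MulEquiv.ofBijective f (hf.bijective_of_nat_card_le (by rw [hcard, hk]))⟩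

/-! ### Groups of order 24 -/

/-- A group of order 24 with a self-centralizing element of order 3 has no irreducible character of degree 4. -/
theorem no_four {K : Type u} [Group K] [Finite K] (hk : Nat.card K = 24) {v : K}
    (hv : Nat.card (centralizer ({v} : Set K)) = 3) (χ : IrrCharacter K) : charDegree (χ : K → ℂ) ≠ 4 := by
  classical
  intro h4
  have := Fintype.ofFinite K
  have := finite_irr (G := K)
  have := Fintype.ofFinite (IrrCharacter K)
  have hsum := SmallSimple.DegreeData.sum_sq (G := K)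
  rw [hk] at hsum
  set D : IrrCharacter K → ℕ := fun ψ => charDegree (ψ : K → ℂ) with hD
  have hDpos : ∀ ψ, 0 < D ψ := by
    intro ψ
    obtain ⟨n, hn0, hn⟩ := isIrr_apply_one ψ.2
    show 0 < charDegree (ψ : K → ℂ)
    unfold charDegree
    rw [hn]
    simpa using hn0
  -- the linear characters
  let L : Finset (IrrCharacter K) := Finset.univ.filter fun ψ => D ψ = 1
  have hL3 : L.card ≤ 3 := by
    have h1 := S0145.sum_irr_mul_conj v v
    rw [if_pos (IsConj.refl _), hv] at h1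
    have h2 : ∀ ψ : IrrCharacter K, (ψ : K → ℂ) v * conj ((ψ : K → ℂ) v) = ((Complex.normSq ((ψ : K → ℂ) v) : ℝ) : ℂ) :=
      fun ψ => Complex.mul_conj _
    rw [Finset.sum_congr rfl fun ψ _ => h2 ψ, ← Complex.ofReal_sum] at h1
    have h3 : ∑ ψ : IrrCharacter K, Complex.normSq ((ψ : K → ℂ) v) = 3 := by exact_mod_cast h1
    have h4 : ∑ ψ ∈ L, Complex.normSq ((ψ : K → ℂ) v) ≤ 3 := by
      rw [← h3]
      exact Finset.sum_le_sum_of_subset_of_nonneg (Finset.subset_univ _) fun _ _ _ => Complex.normSq_nonneg _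
    have h5 : ∀ ψ ∈ L, Complex.normSq ((ψ : K → ℂ) v) = 1 := by
      intro ψ hψ
      have h6 : D ψ = 1 := (Finset.mem_filter.1 hψ).2
      have h7 : (ψ : K → ℂ) 1 = 1 := by
        have h8 : (ψ : K → ℂ) 1 = (charDegree (ψ : K → ℂ) : ℂ) := Blocks.Knorr.charDegree_eq ψ.2
        rw [h8, show charDegree (ψ : K → ℂ) = 1 from h6, Nat.cast_one]
      obtain ⟨f, hf⟩ := Cfsg.Agent.Characters.Linear.exists_hom_of_isIrrCharacter ψ.2 h7
      have h8 : (ψ : K → ℂ) v = ((f v : ℂˣ) : ℂ) := by rw [hf]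
      rw [h8, Complex.normSq_eq_norm_sq, Cfsg.Agent.Characters.Linear.norm_hom_apply, one_pow]
    rw [Finset.sum_congr rfl h5, Finset.sum_const, nsmul_eq_mul, mul_one] at h4
    exact_mod_cast h4
  have hone : (⟨1, isIrr_one⟩ : IrrCharacter K) ∈ L := by
    rw [Finset.mem_filter]
    refine ⟨Finset.mem_univ _, ?_⟩
    show charDegree (1 : K → ℂ) = 1
    unfold charDegree
    simp
  have hL1 : 0 < L.card := Finset.card_pos.2 ⟨_, hone⟩
  have hχL : χ ∉ L := by
    rw [Finset.mem_filter]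
    rintro ⟨-, h⟩
    have : charDegree (χ : K → ℂ) = 1 := h
    omega
  -- the other characters
  let R : Finset (IrrCharacter K) := Finset.univ \ insert χ L
  have h1 : ∑ ψ ∈ R, D ψ ^ 2 + ∑ ψ ∈ insert χ L, D ψ ^ 2 = 24 := by
    rw [Finset.sum_sdiff (Finset.subset_univ _)]
    exact hsum
  have hLs : ∑ ψ ∈ L, D ψ ^ 2 = L.card := by
    rw [Finset.card_eq_sum_ones]
    refine Finset.sum_congr rfl fun ψ hψ => ?_
    have h : D ψ = 1 := (Finset.mem_filter.1 hψ).2
    rw [h, one_pow]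
  have h2 : D χ = 4 := h4
  rw [Finset.sum_insert hχL, hLs, h2] at h1
  have h3 : ∀ ψ ∈ R, D ψ ^ 2 = 4 := by
    intro ψ hψ
    have h5 : D ψ ^ 2 ≤ ∑ ψ ∈ R, D ψ ^ 2 := Finset.single_le_sum (f := fun ψ => D ψ ^ 2) (fun _ _ => Nat.zero_le _) hψ
    have h6 : ψ ∉ insert χ L := (Finset.mem_sdiff.1 hψ).2
    have h7 : D ψ ≠ 1 := fun h => h6 (Finset.mem_insert_of_mem (Finset.mem_filter.2 ⟨Finset.mem_univ _, h⟩))
    have h8 := hDpos ψ
    have h9 : D ψ ≤ 2 := by
      by_contra h9
      have : 3 * 3 ≤ D ψ ^ 2 := by rw [pow_two]; exact Nat.mul_le_mul (by omega) (by omega)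
      omega
    have h10 : D ψ = 2 := by omega
    rw [h10]; norm_num
  rw [Finset.sum_congr rfl h3, Finset.sum_const, smul_eq_mul] at h1
  omega

end Cfsg.Agent.H792.M23.TyA
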