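import Cfsg.Agent.H792.M23.TyA
import Cfsg.Agent.H525.PslK
import Cfsg.Agent.H717.SmallClass
import Cfsg.Agent.H697.ClassCount
import Cfsg.Agent.TwoFusion.SLTwoFacts
import Cfsg.Agent.SmallSimple.S1000.PSLFacts

/-!
# The types of (M,23): the character tables of `L₃(2)` and `A₅` at an involution (helper792)
-/

set_option autoImplicit false
set_option linter.unusedSectionVars false

open Cfsg Subgroup
open scoped ComplexConjugate

namespace Cfsg.Agent.H792.M23.TyK

open Cfsg.Agent.Characters.Core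
open Cfsg.Agent.SmallSimple
open Cfsg.Agent.H606.OreM.Exact

universe u

/-- `j` pairs of the list with given sums -/
def sol (L : List (ℕ × ℤ)) : ℕ → ℕ → ℤ → ℤ → Bool
  | 0, A, B, C => Nat.beq A 0 && decide (B = 0) && decide (C = 0)
  | j + 1, A, B, C => L.any fun a => Nat.ble (a.1 * a.1) A && decide (a.2 * a.2 ≤ B) &&
      sol L j (A - a.1 * a.1) (B - a.2 * a.2) (C - a.1 * a.2)

theorem sol_of {ι : Type*} [DecidableEq ι] (L : List (ℕ × ℤ)) (n : ι → ℕ) (τ : ι → ℤ) (S : Finset ι) :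
    (∀ i ∈ S, (n i, τ i) ∈ L) →
      sol L S.card (∑ i ∈ S, n i * n i) (∑ i ∈ S, τ i * τ i) (∑ i ∈ S, (n i : ℤ) * τ i) = true := by
  induction S using Finset.induction_on with
  | empty => intro _; simp [sol]
  | insert a S ha ih =>
    intro h
    rw [Finset.card_insert_of_notMem ha, Finset.sum_insert ha, Finset.sum_insert ha, Finset.sum_insert ha]
    rw [sol, List.any_eq_true]
    refine ⟨(n a, τ a), h a (Finset.mem_insert_self _ _), ?_⟩
    simp only [Bool.and_eq_true, Nat.ble_eq, decide_eq_true_eq]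
    refine ⟨⟨Nat.le_add_right _ _, ?_⟩, ?_⟩
    · have : 0 ≤ ∑ i ∈ S, τ i * τ i := Finset.sum_nonneg fun i _ => mul_self_nonneg _
      omega
    · rw [Nat.add_sub_cancel_left, add_sub_cancel_left, add_sub_cancel_left]
      exact ih fun i hi => h i (Finset.mem_insert_of_mem hi)

/-- the list of the possible pairs -/
def listOK (k c : ℕ) (L : List (ℕ × ℤ)) : Bool :=
  (List.range (k + 1)).all fun n => (Nat.blt n 3 || k % n != 0 || Nat.ble k (n * n)) ||
    (List.range (2 * c + 1)).all fun j => ((n + j + c) % 2 != 0 ||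
      !decide ((((j : ℤ) - c) * ((j : ℤ) - c)) + 1 ≤ c)) || L.contains (n, (j : ℤ) - c)

theorem mem_of_listOK {k c : ℕ} {L : List (ℕ × ℤ)} (h : listOK k c L = true) {n : ℕ} {τ : ℤ} (hn : 3 ≤ n)
    (hnk : n ∣ k) (hnn : n * n + 1 ≤ k) (hpar : (2 : ℤ) ∣ n - τ) (hτ : τ * τ + 1 ≤ c) : (n, τ) ∈ L := by
  have hk : n < k + 1 := by nlinarith
  have h1 := List.all_eq_true.1 h n (List.mem_range.2 hk)
  rw [Bool.or_eq_true] at h1
  have h2 : ¬ ((Nat.blt n 3 || k % n != 0 || Nat.ble k (n * n)) = true) := by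
    simp only [Bool.or_eq_true, Nat.blt_eq, bne_iff_ne, ne_eq, Nat.ble_eq, not_or, not_not]
    refine ⟨⟨by omega, Nat.mod_eq_zero_of_dvd hnk⟩, by omega⟩
  have h3 := h1.resolve_left h2
  have hc1 : -(c : ℤ) ≤ τ ∧ τ ≤ c := by
    constructor
    · by_contra h7
      push Not at h7
      nlinarith
    · by_contra h7
      push Not at h7
      nlinarith
  obtain ⟨j, hj⟩ : ∃ j : ℕ, (j : ℤ) = τ + c := ⟨(τ + c).toNat, Int.toNat_of_nonneg (by omega)⟩
  have h4 := List.all_eq_true.1 h3 j (List.mem_range.2 (by omega))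
  rw [Bool.or_eq_true] at h4
  have hjc : (j : ℤ) - c = τ := by omega
  have h5 : ¬ (((n + j + c) % 2 != 0 || !decide ((((j : ℤ) - c) * ((j : ℤ) - c)) + 1 ≤ c)) = true) := by
    rw [hjc]
    simp only [Bool.or_eq_true, bne_iff_ne, ne_eq, Bool.not_eq_true', decide_eq_false_iff_not, not_or, not_not]
    exact ⟨by omega, hτ⟩
  have h6 := h4.resolve_left h5
  rw [hjc] at h6
  exact List.contains_iff_mem.1 h6

/-- the solutions -/
def solveOK (L : List (ℕ × ℤ)) (r k c : ℕ) (Lout : List (ℕ × ℕ × ℤ)) : Bool :=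
  (List.range r).all fun m => L.all fun a => Nat.beq m 0 || Lout.contains (m, a.1, a.2) ||
    !(Nat.ble (m * (a.1 * a.1) + 1) k) || !sol L (r - 1 - m) (k - 1 - m * (a.1 * a.1)) ((c : ℤ) - 1 - m * (a.2 * a.2))
      (-1 - m * (a.1 * a.2))

/-- **The characters of a simple group at an involution.** -/
theorem simple_types {K : Type u} [Group K] [Finite K] [IsSimpleGroup K] (hna : ¬ ∀ a b : K, a * b = b * a) {r k c : ℕ}
    (hk : Nat.card K = k) (hr : Nat.card (ConjClasses K) = r) {t : K} (ht : t * t = 1)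
    (hc : Nat.card (centralizer ({t} : Set K)) = c) (hck : c ≠ k) {L : List (ℕ × ℤ)} {Lout : List (ℕ × ℕ × ℤ)}
    (hL : listOK k c L = true) (hS : solveOK L r k c Lout = true) (O : Finset (IrrCharacter K)) (hO : O.Nonempty)
    {n : ℕ} {τ : ℤ} (h : ∀ θ ∈ O, (θ : K → ℂ) 1 = n ∧ (θ : K → ℂ) t = τ) :
    (O.card, n, τ) ∈ (1, 1, 1) :: Lout := by
  classical
  have := Fintype.ofFinite K
  have := finite_irr (G := K)
  have := Fintype.ofFinite (IrrCharacter K)
  have hcard : Fintype.card (IrrCharacter K) = r := by rw [← Nat.card_eq_fintype_card, card_irr, hr]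
  let o : IrrCharacter K := ⟨1, isIrr_one⟩
  have ho1 : (o : K → ℂ) = 1 := rfl
  set D : IrrCharacter K → ℕ := fun θ => charDegree (θ : K → ℂ) with hD
  have hD1 : ∀ θ : IrrCharacter K, (θ : K → ℂ) 1 = (D θ : ℂ) := fun θ => Blocks.Knorr.charDegree_eq θ.2
  choose T hT hpar using fun θ : IrrCharacter K => value_invol θ ht (hD1 θ)
  have hDo : D o = 1 := by
    have h1 := hD1 o
    rw [ho1] at h1
    have h2 : ((D o : ℕ) : ℂ) = 1 := h1.symm
    exact_mod_cast h2
  have hTo : T o = 1 := by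
    have h1 := hT o
    rw [ho1] at h1
    have h2 : ((T o : ℤ) : ℂ) = 1 := h1.symm
    exact_mod_cast h2
  -- the relations
  have s1 : ∑ θ : IrrCharacter K, D θ * D θ = k := by
    rw [← hk, ← DegreeData.sum_sq (G := K)]
    exact Finset.sum_congr rfl fun θ _ => (pow_two _).symm
  have s2 : ∑ θ : IrrCharacter K, T θ * T θ = (c : ℤ) := by
    have h1 := S0145.sum_irr_mul_conj t t
    rw [if_pos (IsConj.refl _), hc] at h1
    have h2 : ∀ θ : IrrCharacter K, (θ : K → ℂ) t * conj ((θ : K → ℂ) t) = ((T θ * T θ : ℤ) : ℂ) := by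
      intro θ
      rw [hT θ, map_intCast]
      push_cast
      rfl
    rw [Finset.sum_congr rfl fun θ _ => h2 θ] at h1
    exact_mod_cast h1
  have ht1 : ¬ IsConj t 1 := by
    intro h1
    have h2 : t = 1 := by
      obtain ⟨g, hg⟩ := isConj_iff.1 h1
      calc t = g⁻¹ * (g * t * g⁻¹) * g := by group
        _ = 1 := by rw [hg]; group
    apply hck
    rw [← hc, ← hk, h2]
    have h3 : centralizer ({(1 : K)} : Set K) = ⊤ := by
      rw [eq_top_iff]
      intro g _
      rw [mem_centralizer_singleton_iff, mul_one, one_mul]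
    rw [h3, Subgroup.card_top]
  have s3 : ∑ θ : IrrCharacter K, (D θ : ℤ) * T θ = 0 := by
    have h1 := S0145.sum_irr_mul_conj t 1
    rw [if_neg ht1] at h1
    have h2 : ∀ θ : IrrCharacter K, (θ : K → ℂ) t * conj ((θ : K → ℂ) 1) = (((D θ : ℤ) * T θ : ℤ) : ℂ) := by
      intro θ
      rw [hT θ, hD1 θ, Complex.conj_natCast]
      push_cast
      ring
    rw [Finset.sum_congr rfl fun θ _ => h2 θ] at h1
    exact_mod_cast h1
  -- degrees
  have hD3 : ∀ θ : IrrCharacter K, θ ≠ o → 3 ≤ D θ := by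
    intro θ hθ
    have h0 : 0 < D θ := by
      obtain ⟨n, hn0, hn⟩ := isIrr_apply_one θ.2
      rw [hD1 θ] at hn
      have : D θ = n := by exact_mod_cast hn
      omega
    have h1 : D θ ≠ 1 := by
      intro h1
      apply hθ
      apply Subtype.ext
      exact Cfsg.Agent.H681.SimpleChar.eq_one_of_degree_one hna θ.2 (by rw [hD1 θ, h1, Nat.cast_one])
    have h2 : D θ ≠ 2 := by
      intro h2
      exact Cfsg.Agent.H681.SimpleChar.degree_ne_two hna ⟨θ, h2⟩
    omega
  have hmem : ∀ θ : IrrCharacter K, θ ≠ o → (D θ, T θ) ∈ L := by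
    intro θ hθ
    have hne : θ ∉ ({o} : Finset (IrrCharacter K)) := by rwa [Finset.mem_singleton]
    refine mem_of_listOK hL (hD3 θ hθ) (by rw [← hk]; exact Blocks.Knorr.charDegree_dvd θ.2) ?_ (hpar θ) ?_
    · have h1 : ∑ θ' ∈ insert θ {o}, D θ' * D θ' ≤ ∑ θ' : IrrCharacter K, D θ' * D θ' :=
        Finset.sum_le_sum_of_subset (Finset.subset_univ _)
      rw [Finset.sum_insert hne, Finset.sum_singleton, hDo, s1] at h1
      exact h1
    · have h1 : ∑ θ' ∈ insert θ {o}, T θ' * T θ' ≤ ∑ θ' : IrrCharacter K, T θ' * T θ' :=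
        Finset.sum_le_sum_of_subset_of_nonneg (Finset.subset_univ _) fun _ _ _ => mul_self_nonneg _
      rw [Finset.sum_insert hne, Finset.sum_singleton, hTo, s2, mul_one] at h1
      exact h1
  obtain ⟨θ₀, hθ₀⟩ := hO
  have hn0 : ∀ θ ∈ O, D θ = n ∧ T θ = τ := by
    intro θ hθ
    obtain ⟨h1, h2⟩ := h θ hθ
    rw [hD1 θ] at h1
    rw [hT θ] at h2
    exact ⟨by exact_mod_cast h1, by exact_mod_cast h2⟩
  by_cases hoO : o ∈ O
  · -- the trivial character
    have h1 := hn0 o hoO
    rw [hDo, hTo] at h1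
    obtain ⟨rfl, rfl⟩ := h1
    have h2 : O = {o} := by
      rw [Finset.eq_singleton_iff_unique_mem]
      refine ⟨hoO, fun θ hθ => ?_⟩
      by_contra h3
      have := hD3 θ h3
      have := (hn0 θ hθ).1
      omega
    rw [h2, Finset.card_singleton]
    exact List.mem_cons_self
  · apply List.mem_cons_of_mem
    have hOpos : 0 < O.card := Finset.card_pos.2 ⟨θ₀, hθ₀⟩
    have hOr : (insert o O).card ≤ r := by rw [← hcard]; exact Finset.card_le_univ _
    rw [Finset.card_insert_of_notMem hoO] at hOr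
    have hθ0o : θ₀ ≠ o := fun h => hoO (h ▸ hθ₀)
    have hL0 := hmem θ₀ hθ0o
    rw [(hn0 θ₀ hθ₀).1, (hn0 θ₀ hθ₀).2] at hL0
    -- the other characters
    let R : Finset (IrrCharacter K) := Finset.univ \ insert o O
    have hRc : R.card = r - 1 - O.card := by
      rw [Finset.card_sdiff_of_subset (Finset.subset_univ _), Finset.card_univ, hcard, Finset.card_insert_of_notMem hoO]
      omega
    have f1 : ∑ θ ∈ O, D θ * D θ = O.card * (n * n) := by
      rw [Finset.sum_congr rfl (g := fun _ => n * n) fun θ hθ => by rw [(hn0 θ hθ).1], Finset.sum_const, smul_eq_mul]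
    have f2 : ∑ θ ∈ O, T θ * T θ = O.card * (τ * τ) := by
      rw [Finset.sum_congr rfl (g := fun _ => τ * τ) fun θ hθ => by rw [(hn0 θ hθ).2], Finset.sum_const, nsmul_eq_mul]
    have f3 : ∑ θ ∈ O, (D θ : ℤ) * T θ = O.card * ((n : ℤ) * τ) := by
      rw [Finset.sum_congr rfl (g := fun _ => (n : ℤ) * τ) fun θ hθ => by rw [(hn0 θ hθ).1, (hn0 θ hθ).2],
        Finset.sum_const, nsmul_eq_mul]
    have e1 : ∑ θ ∈ R, D θ * D θ + (1 + O.card * (n * n)) = k := by
      have h1 := Finset.sum_sdiff (f := fun θ => D θ * D θ) (Finset.subset_univ (insert o O))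
      rw [s1, Finset.sum_insert hoO, hDo, f1] at h1
      exact h1
    have e2 : ∑ θ ∈ R, T θ * T θ + (1 + O.card * (τ * τ)) = c := by
      have h1 := Finset.sum_sdiff (f := fun θ => T θ * T θ) (Finset.subset_univ (insert o O))
      rw [s2, Finset.sum_insert hoO, hTo, f2] at h1
      exact h1
    have e3 : ∑ θ ∈ R, (D θ : ℤ) * T θ + (1 + O.card * ((n : ℤ) * τ)) = 0 := by
      have h1 := Finset.sum_sdiff (f := fun θ => (D θ : ℤ) * T θ) (Finset.subset_univ (insert o O))
      rw [s3, Finset.sum_insert hoO, hDo, hTo, f3] at h1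
      exact h1
    have hsol := sol_of L D T R fun θ hθ => hmem θ fun h2 => (Finset.mem_sdiff.1 hθ).2 (by
      rw [h2]; exact Finset.mem_insert_self _ _)
    rw [hRc, show ∑ θ ∈ R, D θ * D θ = k - 1 - O.card * (n * n) by omega,
      show ∑ θ ∈ R, T θ * T θ = (c : ℤ) - 1 - O.card * (τ * τ) by linarith,
      show ∑ θ ∈ R, (D θ : ℤ) * T θ = -1 - O.card * ((n : ℤ) * τ) by linarith] at hsol
    have h1 := List.all_eq_true.1 (List.all_eq_true.1 hS O.card (List.mem_range.2 (by omega))) _ hL0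
    simp only [Bool.or_eq_true, Bool.not_eq_true'] at h1
    rcases h1 with ((h1 | h1) | h1) | h1
    · rw [Nat.beq_eq] at h1; omega
    · exact List.contains_iff_mem.1 h1
    · exfalso
      have h2 : Nat.ble (O.card * (n * n) + 1) k = true := by rw [Nat.ble_eq]; omega
      rw [h2] at h1
      exact absurd h1 (by decide)
    · exfalso
      rw [hsol] at h1
      exact absurd h1 (by decide)

/-- the pairs of `L₃(2)` -/
def L168 : List (ℕ × ℤ) := [(3, 1), (3, -1), (4, 0), (4, 2), (4, -2), (6, 0), (6, 2), (6, -2), (7, 1), (7, -1), (8, 0),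
  (8, 2), (8, -2), (12, 0), (12, 2), (12, -2)]

/-- the pairs of `A₅` -/
def L60 : List (ℕ × ℤ) := [(3, 1), (3, -1), (4, 0), (5, 1), (5, -1), (6, 0)]

theorem list168 : listOK 168 8 L168 = true := by decide +kernel

theorem list60 : listOK 60 4 L60 = true := by decide +kernel

theorem solve168 : solveOK L168 6 168 8 [(1, 3, -1), (2, 3, -1), (1, 6, 2), (1, 7, -1), (1, 8, 0)] = true := by
  decide +kernel

theorem solve60 : solveOK L60 5 60 4 [(1, 3, -1), (2, 3, -1), (1, 4, 0), (1, 5, 1)] = true := by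
  decide +kernel

theorem not_comm_of {K : Type u} [Group K] [Finite K] {t : K} {c : ℕ}
    (hc : Nat.card (centralizer ({t} : Set K)) = c) (hck : c ≠ Nat.card K) : ¬ ∀ a b : K, a * b = b * a := by
  intro h
  apply hck
  have h1 : centralizer ({t} : Set K) = ⊤ := by
    rw [eq_top_iff]
    intro g _
    rw [mem_centralizer_singleton_iff]
    exact h _ _
  rw [← hc, h1, Subgroup.card_top]

/-- **`L₃(2)`** -/
theorem k17 {K : Type u} [Group K] [Finite K] (e : K ≃* Matrix.ProjectiveSpecialLinearGroup (Fin 2) (ZMod 7)) {t : K}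
    (ht : t * t = 1) (hc : Nat.card (centralizer ({t} : Set K)) = 8) (O : Finset (IrrCharacter K)) (hO : O.Nonempty)
    {n : ℕ} {τ : ℤ} (h : ∀ θ ∈ O, (θ : K → ℂ) 1 = n ∧ (θ : K → ℂ) t = τ) :
    (O.card, n, τ) ∈ [(1, 1, 1), (1, 3, -1), (2, 3, -1), (1, 6, 2), (1, 7, -1), (1, 8, 0)] := by
  have hF : Fact (Nat.Prime 7) := ⟨by norm_num⟩
  have hk : Nat.card K = 168 := by
    rw [Nat.card_congr e.toEquiv]
    exact Cfsg.Agent.SmallSimple.PSLFacts.card_psl_two_seven (ZMod.card 7)
  have hs : IsSimpleGroup (Matrix.ProjectiveSpecialLinearGroup (Fin 2) (ZMod 7)) :=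
    TwoFusion.SLTwoFacts.isSimpleGroup_psl (F := ZMod 7) (by rw [ZMod.card]; norm_num)
  have : IsSimpleGroup K := e.isSimpleGroup
  have hr : Nat.card (ConjClasses K) = 6 := by
    rw [H697.ClassCount.card_conjClasses_congr e]
    have h1 := H525.PslK.psl2_odd (F := ZMod 7) (by rw [ZMod.card]; decide)
    rw [ZMod.card] at h1
    omega
  exact simple_types (not_comm_of hc (by rw [hk]; norm_num)) hk hr ht hc (by norm_num) list168 solve168 O hO h

/-- **`A₅`** -/
theorem k19 {K : Type u} [Group K] [Finite K] (e : K ≃* alternatingGroup (Fin 5)) {t : K}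
    (ht : t * t = 1) (hc : Nat.card (centralizer ({t} : Set K)) = 4) (O : Finset (IrrCharacter K)) (hO : O.Nonempty)
    {n : ℕ} {τ : ℤ} (h : ∀ θ ∈ O, (θ : K → ℂ) 1 = n ∧ (θ : K → ℂ) t = τ) :
    (O.card, n, τ) ∈ [(1, 1, 1), (1, 3, -1), (2, 3, -1), (1, 4, 0), (1, 5, 1)] := by
  have hk : Nat.card K = 60 := by
    have h5 : 2 * Nat.card (alternatingGroup (Fin 5)) = 2 * 60 := by
      rw [Nat.card_eq_fintype_card, two_mul_card_alternatingGroup, Fintype.card_perm, Fintype.card_fin]
      rfl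
    rw [Nat.card_congr e.toEquiv]
    omega
  have : IsSimpleGroup K := e.isSimpleGroup
  have hr : Nat.card (ConjClasses K) = 5 := by
    rw [H697.ClassCount.card_conjClasses_congr e, H717.SmallClass.conj_alt_five]
  exact simple_types (not_comm_of hc (by rw [hk]; norm_num)) hk hr ht hc (by norm_num) list60 solve60 O hO h

end Cfsg.Agent.H792.M23.TyK
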